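import Mathlib
import Groth.Prelude.Def_SGA3b
import Groth.Agent.Lib.Helper6.MultType.Basic
import Groth.Agent.Lib.Helper6.Lift.Charts
import Groth.Agent.Lib.Helper6.IsoNil.IN1
import Groth.Agent.Lib.Helper6.FlatDef.FD1
import Groth.Agent.Lib.Helper6.HCompl.HC3
import Groth.Agent.Lib.Helper6.QIso.QI2
import Groth.Agent.Lib.Helper9.GroupLikeConn

/-!
# A homomorphism from a group of multiplicative type to a diagonalisable group which is an
isomorphism modulo an ideal contained in the Jacobson radical is an isomorphism (helper6)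

The proof passes to local rings of flat charts of the source, where homomorphisms between
diagonalisable groups come from homomorphisms of the character groups.
-/

set_option autoImplicit false
set_option linter.unusedSectionVars false
set_option linter.unusedVariables false
set_option linter.unusedSimpArgs false
set_option linter.style.haveILetI false
set_option linter.overlappingInstances false
set_option maxHeartbeats 800000
set_option synthInstance.maxHeartbeats 400000

universe u
open TensorProduct SGA3b Coalgebra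
open Groth.Agent.Lib.Helper6.MultType Groth.Agent.Lib.Helper6.Lift
open Groth.Agent.Lib.Helper6.IsoNil Groth.Agent.Lib.Helper6.QIso

namespace Groth.Agent.Lib.Helper6.IsoJac

section Family

variable {R : Type u} [CommRing R]

/-- A family of flat algebras meeting every maximal ideal is jointly faithful. -/
theorem eq_zero_of_family' {ι : Type*} (S : ι → Type u) [∀ i, CommRing (S i)]
    [∀ i, Algebra R (S i)] [∀ i, Module.Flat R (S i)]
    (hJF : ∀ 𝔪 : Ideal R, 𝔪.IsMaximal → ∃ i, Ideal.map (algebraMap R (S i)) 𝔪 ≠ ⊤)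
    {N : Type u} [AddCommGroup N] [Module R N] (z : N)
    (hz : ∀ i, (1 : S i) ⊗ₜ[R] z = 0) : z = 0 := by
  by_contra hne
  obtain ⟨𝔞, h𝔞⟩ : ∃ 𝔞 : Ideal R, 𝔞 = LinearMap.ker (LinearMap.toSpanSingleton R N z) := ⟨_, rfl⟩
  have hmem : ∀ r, r ∈ 𝔞 ↔ r • z = 0 := by
    intro r
    rw [h𝔞, LinearMap.mem_ker, LinearMap.toSpanSingleton_apply]
  have hne_top : 𝔞 ≠ ⊤ := by
    intro h
    have h1 : (1 : R) ∈ 𝔞 := h ▸ Submodule.mem_top
    rw [hmem, one_smul] at h1
    exact hne h1
  obtain ⟨𝔪, h𝔪, hle⟩ := Ideal.exists_le_maximal 𝔞 hne_top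
  obtain ⟨i, hi⟩ := hJF 𝔪 h𝔪
  apply hi
  obtain ⟨g, hg⟩ : ∃ g : (R ⧸ 𝔞) →ₗ[R] N,
      g = Submodule.liftQ 𝔞 (LinearMap.toSpanSingleton R N z) (le_of_eq h𝔞) := ⟨_, rfl⟩
  have hginj : Function.Injective g := by
    rw [← LinearMap.ker_eq_bot, hg]
    exact Submodule.ker_liftQ_eq_bot _ _ _ (le_of_eq h𝔞.symm)
  have hg1 : g (1 : R ⧸ 𝔞) = z := by
    rw [hg]
    show Submodule.liftQ 𝔞 (LinearMap.toSpanSingleton R N z) (le_of_eq h𝔞)
      (Submodule.Quotient.mk (1 : R)) = z
    rw [Submodule.liftQ_apply, LinearMap.toSpanSingleton_apply, one_smul]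
  have hinj := Module.Flat.lTensor_preserves_injective_linearMap (M := S i) g hginj
  have h0 : (1 : S i) ⊗ₜ[R] (1 : R ⧸ 𝔞) = 0 := by
    apply hinj
    rw [LinearMap.lTensor_tmul, hg1, hz i, map_zero]
  have h1 : (1 : R ⧸ 𝔞) ⊗ₜ[R] (1 : S i) = 0 := by
    have := congrArg (TensorProduct.comm R (S i) (R ⧸ 𝔞)) h0
    rwa [TensorProduct.comm_tmul, map_zero] at this
  have h2 : (1 : S i) ∈ 𝔞 • (⊤ : Submodule R (S i)) :=
    Groth.Agent.Lib.Helper6.FlatDef.mem_smul_top_of_one_tmul 𝔞 (1 : S i) h1
  rw [Ideal.smul_top_eq_map] at h2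
  have h3 : (1 : S i) ∈ Ideal.map (algebraMap R (S i)) 𝔞 := h2
  have h4 : Ideal.map (algebraMap R (S i)) 𝔞 = ⊤ := (Ideal.eq_top_iff_one _).mpr h3
  exact top_le_iff.mp (h4 ▸ Ideal.map_mono hle)

end Family

section Local

variable {E : Type u} [CommRing E] [IsLocalRing E] {N M : Type u} [CommGroup N] [CommGroup M]

lemma isIdempotentElem_local (e : E) (he : IsIdempotentElem e) : e = 0 ∨ e = 1 := by
  rcases IsLocalRing.isUnit_or_isUnit_one_sub_self e with h | h
  · right
    exact (IsUnit.mul_right_inj h).mp (by rw [he.eq, mul_one])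
  · left
    have h0 : e * (1 - e) = 0 := by rw [mul_sub, mul_one, he.eq, sub_self]
    exact (IsUnit.mul_left_eq_zero h).mp h0

lemma coeff_mem_of_mem_smul_top {E : Type u} [CommRing E] {N : Type u} (J : Ideal E)
    {x : MonoidAlgebra E N}
    (hx : x ∈ J • (⊤ : Submodule E (MonoidAlgebra E N))) (n : N) :
    Groth.Agent.Helper9.GLConn.ev n x ∈ J := by
  have h := Groth.Agent.Lib.Helper6.HCompl.smul_top_map_mem J
    (Groth.Agent.Helper9.GLConn.ev (C := E) n) hx
  refine Submodule.smul_induction_on h (fun r hr s _ => ?_) (fun a b ha hb => J.add_mem ha hb)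
  rw [smul_eq_mul]
  exact J.mul_mem_right s hr

open Groth.Agent.Helper9.GLConn in
/-- Over a local ring, a homomorphism between diagonalisable groups which is invertible modulo the
maximal ideal is an isomorphism. -/
theorem bijective_of_local (Φ : MonoidAlgebra E N →ₐc[E] MonoidAlgebra E M)
    (Sg : MonoidAlgebra E M →ₗ[E] MonoidAlgebra E N)
    (h1 : ∀ x, x - Sg (Φ x) ∈
      IsLocalRing.maximalIdeal E • (⊤ : Submodule E (MonoidAlgebra E N)))
    (h2 : ∀ y, Φ (Sg y) - y ∈
      IsLocalRing.maximalIdeal E • (⊤ : Submodule E (MonoidAlgebra E M))) :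
    Function.Bijective Φ := by
  classical
  obtain ⟨f, hf⟩ := exists_monoidHom (isIdempotentElem_local (E := E)) Φ
  have hsingle : ∀ n : N, Φ (MonoidAlgebra.single n 1) = MonoidAlgebra.single (f n) 1 := by
    intro n
    rw [hf, MonoidAlgebra.mapDomainBialgHom_single]
  have h1ne : (1 : E) ∉ IsLocalRing.maximalIdeal E := fun h =>
    (IsLocalRing.maximalIdeal.isMaximal E).ne_top ((Ideal.eq_top_iff_one _).mpr h)
  have hinj : Function.Injective f := by
    intro n n' hnn
    by_contra hne
    have hx := h1 (MonoidAlgebra.single n 1 - MonoidAlgebra.single n' 1)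
    rw [map_sub, hsingle, hsingle, hnn, sub_self, map_zero, sub_zero] at hx
    have hc := coeff_mem_of_mem_smul_top _ hx n
    rw [map_sub, ev_single, ev_single, if_pos rfl, if_neg (fun h => hne h.symm), sub_zero] at hc
    exact h1ne hc
  have hsurj : Function.Surjective f := by
    intro m
    by_contra hne
    push Not at hne
    have hy := h2 (MonoidAlgebra.single m 1)
    have hc := coeff_mem_of_mem_smul_top _ hy m
    have hzero : ∀ w : MonoidAlgebra E N, ev m (Φ w) = 0 := by
      intro w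
      induction w using MonoidAlgebra.induction_linear with
      | zero => rw [map_zero, map_zero]
      | add x y hx hy => rw [map_add, map_add, hx, hy, add_zero]
      | single n r =>
        rw [hf, MonoidAlgebra.mapDomainBialgHom_single, ev_single, if_neg (hne n)]
    rw [map_sub, hzero, ev_single, if_pos rfl, zero_sub] at hc
    exact h1ne ((Ideal.neg_mem_iff _).mp hc)
  obtain ⟨e, he⟩ : ∃ e : N ≃* M, ∀ n, e n = f n :=
    ⟨MulEquiv.ofBijective f ⟨hinj, hsurj⟩, fun n => rfl⟩
  rw [Function.bijective_iff_has_inverse]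
  refine ⟨MonoidAlgebra.mapDomainBialgHom E e.symm.toMonoidHom, ?_, ?_⟩
  · intro x
    rw [hf, MonoidAlgebra.mapDomainBialgHom_mapDomainBialgHom]
    have hc : e.symm.toMonoidHom.comp f = MonoidHom.id N := by
      ext n
      show e.symm (f n) = n
      rw [← he, e.symm_apply_apply]
    rw [hc, MonoidAlgebra.mapDomainBialgHom_id]
    rfl
  · intro y
    rw [hf, MonoidAlgebra.mapDomainBialgHom_mapDomainBialgHom]
    have hc : f.comp e.symm.toMonoidHom = MonoidHom.id M := by
      ext m
      show f (e.symm m) = m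
      rw [← he, e.apply_symm_apply]
    rw [hc, MonoidAlgebra.mapDomainBialgHom_id]
    rfl

end Local

section Transfer

variable {R : Type u} [CommRing R] (I : Ideal R)

/-- A congruence modulo `I` between two maps persists after base change. -/
lemma tensor_sub_mem (E : Type u) [CommRing E] [Algebra R E]
    {X Y : Type u} [AddCommGroup X] [Module R X] [AddCommGroup Y] [Module R Y]
    (J : Ideal E) (hIJ : ∀ r ∈ I, algebraMap R E r ∈ J) (p q : X → Y)
    (h : ∀ x, p x - q x ∈ I • (⊤ : Submodule R Y))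
    (P Q : E ⊗[R] X → E ⊗[R] Y)
    (hPa : ∀ w w', P (w + w') = P w + P w') (hQa : ∀ w w', Q (w + w') = Q w + Q w')
    (hPt : ∀ a x, P (a ⊗ₜ[R] x) = a ⊗ₜ[R] p x) (hQt : ∀ a x, Q (a ⊗ₜ[R] x) = a ⊗ₜ[R] q x)
    (w : E ⊗[R] X) : P w - Q w ∈ J • (⊤ : Submodule E (E ⊗[R] Y)) := by
  induction w using TensorProduct.induction_on with
  | zero =>
    have hP0 : P 0 = 0 := by
      rw [← TensorProduct.zero_tmul E (0 : X), hPt, TensorProduct.zero_tmul]
    have hQ0 : Q 0 = 0 := by
      rw [← TensorProduct.zero_tmul E (0 : X), hQt, TensorProduct.zero_tmul]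
    rw [hP0, hQ0, sub_zero]
    exact Submodule.zero_mem _
  | tmul a x =>
    rw [hPt, hQt, ← TensorProduct.tmul_sub]
    refine Submodule.smul_induction_on
      (p := fun y => a ⊗ₜ[R] y ∈ J • (⊤ : Submodule E (E ⊗[R] Y))) (h x) ?_ ?_
    · intro r hr y _
      have h3 : a ⊗ₜ[R] (r • y) = algebraMap R E r • (a ⊗ₜ[R] y) := by
        rw [TensorProduct.smul_tmul', smul_eq_mul, ← Algebra.smul_def, TensorProduct.smul_tmul]
      rw [h3]
      exact Submodule.smul_mem_smul (hIJ r hr) Submodule.mem_top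
    · intro y y' hy hy'
      rw [TensorProduct.tmul_add]
      exact Submodule.add_mem _ hy hy'
  | add w w' hw hw' =>
    rw [hPa, hQa, add_sub_add_comm]
    exact Submodule.add_mem _ hw hw'

lemma bialgEquiv_mem_smul_top {E : Type u} [CommRing E] {X Y : Type u} [CommRing X] [CommRing Y]
    [Bialgebra E X] [Bialgebra E Y] (e : X ≃ₐc[E] Y) (J : Ideal E) {x : X}
    (hx : x ∈ J • (⊤ : Submodule E X)) : e x ∈ J • (⊤ : Submodule E Y) := by
  refine Submodule.smul_induction_on (p := fun x => e x ∈ J • (⊤ : Submodule E Y)) hx ?_ ?_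
  · intro r hr n _
    rw [map_smul]
    exact Submodule.smul_mem_smul hr Submodule.mem_top
  · intro a b ha hb
    rw [map_add]
    exact Submodule.add_mem _ ha hb

variable {C : Type u} [CommRing C] [HopfAlgebra R C] {M : Type u} [CommGroup M]
  (φ : C →ₐc[R] MonoidAlgebra R M) (σ : MonoidAlgebra R M →ₗ[R] C)

/-- The base change of `φ` to a local chart of `C` is bijective. -/
theorem baseChange_bijective (E : Type u) [CommRing E] [Algebra R E] [IsLocalRing E]
    (hIE : ∀ r ∈ I, algebraMap R E r ∈ IsLocalRing.maximalIdeal E)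
    (hd : IsDiag E (E ⊗[R] C))
    (h1 : ∀ c, c - σ (φ c) ∈ I • (⊤ : Submodule R C))
    (h2 : ∀ b, φ (σ b) - b ∈ I • (⊤ : Submodule R (MonoidAlgebra R M))) :
    Function.Bijective (Bialgebra.TensorProduct.map (BialgHom.id E E) φ) := by
  obtain ⟨N, _, ⟨e⟩⟩ := hd
  obtain ⟨φE, hφE⟩ : ∃ φE : E ⊗[R] C →ₐc[E] E ⊗[R] MonoidAlgebra R M,
      φE = Bialgebra.TensorProduct.map (BialgHom.id E E) φ := ⟨_, rfl⟩
  have hφEt : ∀ (a : E) (c : C), φE (a ⊗ₜ[R] c) = a ⊗ₜ[R] φ c := by
    intro a c
    rw [hφE]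
    rfl
  obtain ⟨st, hst⟩ : ∃ st : E ⊗[R] MonoidAlgebra R M ≃ₐc[E] MonoidAlgebra E M,
      st = scalarTensorBialgEquiv R E M := ⟨_, rfl⟩
  obtain ⟨Φ, hΦ⟩ : ∃ Φ : MonoidAlgebra E N →ₐc[E] MonoidAlgebra E M,
      ∀ x, Φ x = st (φE (e.symm x)) :=
    ⟨((st : _ →ₐc[E] _).comp φE).comp (e.symm : _ →ₐc[E] _), fun x => rfl⟩
  obtain ⟨Sg, hSg⟩ : ∃ Sg : MonoidAlgebra E M →ₗ[E] MonoidAlgebra E N,
      ∀ y, Sg y = e (σ.baseChange E (st.symm y)) :=
    ⟨{ toFun := fun y => e (σ.baseChange E (st.symm y))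
       map_add' := fun y y' => by simp only [map_add]
       map_smul' := fun a y => by simp only [map_smul, RingHom.id_apply] }, fun y => rfl⟩
  -- congruences on the tensor level
  have hT1 : ∀ w : E ⊗[R] C, w - σ.baseChange E (φE w) ∈
      IsLocalRing.maximalIdeal E • (⊤ : Submodule E (E ⊗[R] C)) := by
    intro w
    exact tensor_sub_mem I E (IsLocalRing.maximalIdeal E) hIE (fun c => c) (fun c => σ (φ c)) h1
      (fun w => w) (fun w => σ.baseChange E (φE w)) (fun _ _ => rfl)
      (fun w w' => by rw [map_add, map_add])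
      (fun _ _ => rfl)
      (fun a c => by rw [hφEt, LinearMap.baseChange_tmul]) w
  have hT2 : ∀ z : E ⊗[R] MonoidAlgebra R M, φE (σ.baseChange E z) - z ∈
      IsLocalRing.maximalIdeal E • (⊤ : Submodule E (E ⊗[R] MonoidAlgebra R M)) := by
    intro z
    exact tensor_sub_mem I E (IsLocalRing.maximalIdeal E) hIE (fun b => φ (σ b)) (fun b => b) h2
      (fun z => φE (σ.baseChange E z)) (fun z => z)
      (fun w w' => by rw [map_add, map_add]) (fun _ _ => rfl)
      (fun a b => by rw [LinearMap.baseChange_tmul, hφEt]) (fun _ _ => rfl) z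
  have hL1 : ∀ x, x - Sg (Φ x) ∈
      IsLocalRing.maximalIdeal E • (⊤ : Submodule E (MonoidAlgebra E N)) := by
    intro x
    have h3 : x - Sg (Φ x) = e (e.symm x - σ.baseChange E (φE (e.symm x))) := by
      rw [hSg, hΦ, st.symm_apply_apply, map_sub, e.apply_symm_apply]
    rw [h3]
    exact bialgEquiv_mem_smul_top e _ (hT1 _)
  have hL2 : ∀ y, Φ (Sg y) - y ∈
      IsLocalRing.maximalIdeal E • (⊤ : Submodule E (MonoidAlgebra E M)) := by
    intro y
    have h3 : Φ (Sg y) - y = st (φE (σ.baseChange E (st.symm y)) - st.symm y) := by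
      rw [hΦ, hSg, e.symm_apply_apply, map_sub, st.apply_symm_apply]
    rw [h3]
    exact bialgEquiv_mem_smul_top st _ (hT2 _)
  have hΦbij := bijective_of_local Φ Sg hL1 hL2
  have hfun : ((Bialgebra.TensorProduct.map (BialgHom.id E E) φ : E ⊗[R] C →ₐc[E] _) :
      E ⊗[R] C → E ⊗[R] MonoidAlgebra R M) = (st.symm ∘ Φ) ∘ e := by
    funext w
    rw [← hφE]
    simp only [Function.comp_apply]
    rw [hΦ, e.symm_apply_apply, st.symm_apply_apply]
  rw [hfun]
  exact (st.symm.bijective.comp hΦbij).comp e.bijective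

end Transfer

section Main

variable {R : Type u} [CommRing R]

/-- A local flat chart of a Hopf algebra through which a given ideal maps into the maximal
ideal. -/
structure LChart (R C : Type u) [CommRing R] [CommRing C] [HopfAlgebra R C] (I : Ideal R) where
  /-- the local ring of the chart -/
  E : Type u
  [ring : CommRing E]
  [alg : Algebra R E]
  [loc : IsLocalRing E]
  flat : Module.Flat R E
  diag : IsDiag E (E ⊗[R] C)
  mem : ∀ r ∈ I, algebraMap R E r ∈ IsLocalRing.maximalIdeal E

attribute [instance] LChart.ring LChart.alg LChart.loc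

instance {C : Type u} [CommRing C] [HopfAlgebra R C] (I : Ideal R) (c : LChart R C I) :
    Module.Flat R c.E := c.flat

/-- Groups of multiplicative type are flat. -/
theorem flat_of_isMultType {A : Type u} [CommRing A] [HopfAlgebra R A] (h : IsMultType R A) :
    Module.Flat R A := by
  obtain ⟨s, hs, H⟩ := h
  haveI hloc : ∀ g : s, IsLocalizedModule (Submonoid.powers g.1)
      (TensorProduct.mk R (Localization.Away g.1) A 1) := fun g =>
    (isLocalizedModule_iff_isBaseChange (Submonoid.powers g.1) (Localization.Away g.1) _).mpr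
      (TensorProduct.isBaseChange R A (Localization.Away g.1))
  have hloc' : ∀ g : s, Module.Flat (Localization.Away g.1) (Localization.Away g.1 ⊗[R] A) := by
    intro g
    obtain ⟨T, _, _, hff, M, _, ⟨e⟩⟩ := H g.1 g.2
    haveI := hff
    exact flat_of_chart e
  apply Module.flat_of_isLocalized_span R A s hs (fun g => Localization.Away g.1 ⊗[R] A)
    (fun g => TensorProduct.mk R (Localization.Away g.1) A 1)
  intro g
  haveI := hloc' g
  exact Module.Flat.trans R (Localization.Away g.1) (Localization.Away g.1 ⊗[R] A)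

theorem isQuasiIsotrivial_of_isDiag {A : Type u} [CommRing A] [HopfAlgebra R A]
    (h : IsDiag R A) : IsQuasiIsotrivial R A := by
  refine ⟨{1}, by rw [Ideal.span_singleton_one], ?_⟩
  intro f hf
  refine ⟨Localization.Away f, inferInstance, inferInstance, inferInstance, inferInstance, ?_⟩
  exact IsDiag.baseChange (IsDiag.baseChange h (Localization.Away f)) (Localization.Away f)

variable (I : Ideal R) {C : Type u} [CommRing C] [HopfAlgebra R C]

/-- Local charts exist at every maximal ideal containing `I`. -/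
lemma exists_lchart (hC : IsMultType R C) (𝔪 : Ideal R) (h𝔪 : 𝔪.IsMaximal) (hI𝔪 : I ≤ 𝔪) :
    ∃ c : LChart R C I, Ideal.map (algebraMap R c.E) 𝔪 ≠ ⊤ := by
  classical
  obtain ⟨ι, _, _, ch, hch⟩ := IsMultType.exists_charts hC
  obtain ⟨i, hi⟩ := hch 𝔪 h𝔪.ne_top
  obtain ⟨𝔮, h𝔮, hle⟩ := Ideal.exists_le_maximal _ hi
  haveI := h𝔮.isPrime
  obtain ⟨E, hE⟩ : ∃ E : Type u, E = Localization.AtPrime 𝔮 := ⟨_, rfl⟩
  subst hE
  haveI : Module.Flat (ch i).S (Localization.AtPrime 𝔮) :=
    IsLocalization.flat (Localization.AtPrime 𝔮) 𝔮.primeCompl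
  have hflat : Module.Flat R (Localization.AtPrime 𝔮) :=
    Module.Flat.trans R (ch i).S (Localization.AtPrime 𝔮)
  have hmem : ∀ r ∈ 𝔪, algebraMap R (Localization.AtPrime 𝔮) r ∈
      IsLocalRing.maximalIdeal (Localization.AtPrime 𝔮) := by
    intro r hr
    have h1 : algebraMap R (ch i).S r ∈ 𝔮 := hle (Ideal.mem_map_of_mem _ hr)
    rw [IsScalarTower.algebraMap_apply R (ch i).S (Localization.AtPrime 𝔮)]
    exact (IsLocalization.AtPrime.to_map_mem_maximal_iff (Localization.AtPrime 𝔮) 𝔮 _).mpr h1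
  have hne : Ideal.map (algebraMap R (Localization.AtPrime 𝔮)) 𝔪 ≠ ⊤ := by
    intro htop
    have hle' : Ideal.map (algebraMap R (Localization.AtPrime 𝔮)) 𝔪 ≤
        IsLocalRing.maximalIdeal (Localization.AtPrime 𝔮) :=
      Ideal.map_le_iff_le_comap.mpr (fun r hr => hmem r hr)
    rw [htop, top_le_iff] at hle'
    exact (IsLocalRing.maximalIdeal.isMaximal (Localization.AtPrime 𝔮)).ne_top hle'
  have hdiag : IsDiag (Localization.AtPrime 𝔮) (Localization.AtPrime 𝔮 ⊗[R] C) :=
    isDiag_transfer (algebraMap (ch i).S (Localization.AtPrime 𝔮))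
      (fun r => (IsScalarTower.algebraMap_apply R (ch i).S (Localization.AtPrime 𝔮) r).symm)
      (ch i).diag
  exact ⟨⟨Localization.AtPrime 𝔮, hflat, hdiag, fun r hr => hmem r (hI𝔪 hr)⟩, hne⟩

/-- **Isomorphisms modulo the radical.** A homomorphism from a group of multiplicative type to a
diagonalisable group which admits an inverse modulo an ideal contained in the Jacobson radical is
an isomorphism. -/
theorem bijective_of_mod_jacobson (hI : I ≤ Ideal.jacobson ⊥) (hC : IsMultType R C)
    {M : Type u} [CommGroup M] (φ : C →ₐc[R] MonoidAlgebra R M)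
    (σ : MonoidAlgebra R M →ₗ[R] C)
    (h1 : ∀ c, c - σ (φ c) ∈ I • (⊤ : Submodule R C))
    (h2 : ∀ b, φ (σ b) - b ∈ I • (⊤ : Submodule R (MonoidAlgebra R M))) :
    Function.Bijective φ := by
  have hJF : ∀ 𝔪 : Ideal R, 𝔪.IsMaximal →
      ∃ c : LChart R C I, Ideal.map (algebraMap R c.E) 𝔪 ≠ ⊤ := by
    intro 𝔪 h𝔪
    exact exists_lchart I hC 𝔪 h𝔪 (hI.trans (sInf_le ⟨bot_le, h𝔪⟩))
  have hbij : ∀ c : LChart R C I,
      Function.Bijective (Bialgebra.TensorProduct.map (BialgHom.id c.E c.E) φ) :=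
    fun c => baseChange_bijective I φ σ c.E c.mem c.diag h1 h2
  constructor
  · rw [injective_iff_map_eq_zero]
    intro x hx
    apply eq_zero_of_family' (fun c : LChart R C I => c.E) hJF x
    intro c
    apply (hbij c).1
    rw [map_zero]
    show (1 : c.E) ⊗ₜ[R] φ x = 0
    rw [hx, TensorProduct.tmul_zero]
  · intro b
    obtain ⟨φl, hφl⟩ : ∃ φl : C →ₗ[R] MonoidAlgebra R M, ∀ c, φl c = φ c :=
      ⟨(φ : C →ₐ[R] MonoidAlgebra R M).toLinearMap, fun c => rfl⟩
    have hz : (Submodule.Quotient.mk b : MonoidAlgebra R M ⧸ LinearMap.range φl) = 0 := by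
      apply eq_zero_of_family' (fun c : LChart R C I => c.E) hJF
      intro c
      obtain ⟨w, hw⟩ := (hbij c).2 ((1 : c.E) ⊗ₜ[R] b)
      have h3 : ∀ w : c.E ⊗[R] C, (Submodule.mkQ (LinearMap.range φl)).baseChange c.E
          (Bialgebra.TensorProduct.map (BialgHom.id c.E c.E) φ w) = 0 := by
        intro w
        induction w using TensorProduct.induction_on with
        | zero => rw [map_zero, map_zero]
        | tmul a x =>
          show (Submodule.mkQ (LinearMap.range φl)).baseChange c.E (a ⊗ₜ[R] φ x) = 0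
          rw [LinearMap.baseChange_tmul, Submodule.mkQ_apply,
            (Submodule.Quotient.mk_eq_zero (LinearMap.range φl)).mpr (LinearMap.mem_range.mpr ⟨x, hφl x⟩), TensorProduct.tmul_zero]
        | add w w' hw hw' => rw [map_add, map_add, hw, hw', add_zero]
      have h4 := h3 w
      rw [hw, LinearMap.baseChange_tmul] at h4
      exact h4
    rw [Submodule.Quotient.mk_eq_zero] at hz
    obtain ⟨x, hx⟩ := hz
    exact ⟨x, (hφl x).symm.trans hx⟩

end Main

end Groth.Agent.Lib.Helper6.IsoJac
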