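import Mathlib
import Groth.Prelude.Def_SGA3b
import Groth.Agent.Lib.Helper6.IsoJac.IJ1
import Groth.Agent.Lib.Helper6.HomNil.HN4
import Groth.Agent.Lib.Helper6.IsoNil.IN2
import Groth.Agent.Lib.Helper7.Hens.FinEtaleLift
import Groth.Agent.Lib.Helper4.FFAlg1

/-!
# Over a complete Noetherian base, a group of multiplicative type which is isotrivial modulo `I`
is isotrivial (helper6)
-/

set_option autoImplicit false
set_option linter.unusedSectionVars false
set_option linter.unusedVariables false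
set_option linter.unusedSimpArgs false
set_option linter.style.haveILetI false
set_option linter.overlappingInstances false
set_option maxHeartbeats 800000
set_option synthInstance.maxHeartbeats 400000

universe u
open TensorProduct SGA3b Coalgebra
open Groth.Agent.Lib.Helper6.MultType Groth.Agent.Lib.Helper6.Lift
open Groth.Agent.Lib.Helper6.IsoNil Groth.Agent.Lib.Helper6.QIso

namespace Groth.Agent.Lib.Helper6.IsoJac

section Diag

variable {A : Type u} [CommRing A] [IsNoetherianRing A] (I : Ideal A) [IsAdicComplete I A]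
variable {C : Type u} [CommRing C] [HopfAlgebra A C]

/-- Over a complete Noetherian base, a group of multiplicative type which is diagonalisable modulo
`I` is diagonalisable. -/
theorem isDiag_of_isDiag_mod_complete (hC : IsMultType A C)
    (h0 : IsDiag (A ⧸ I) ((A ⧸ I) ⊗[A] C)) : IsDiag A C := by
  classical
  obtain ⟨M, _, ⟨e₀⟩⟩ := id h0
  haveI : Module.Flat A C := flat_of_isMultType hC
  have hB : IsIsotrivial A (MonoidAlgebra A M) :=
    ⟨A, inferInstance, inferInstance, inferInstance, inferInstance, inferInstance,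
      IsDiag.baseChange ⟨M, inferInstance, ⟨BialgEquiv.refl A _⟩⟩ A⟩
  have hfl : ∀ (q : Ideal C) [q.IsPrime], Ideal.map (algebraMap A C) I ≤ q →
      Module.Flat A (Localization.AtPrime q) := by
    intro q _ _
    exact Module.Flat.trans A C (Localization.AtPrime q)
  have hq0 : IsQuasiIsotrivial (A ⧸ I) ((A ⧸ I) ⊗[A] C) := isQuasiIsotrivial_of_isDiag h0
  obtain ⟨st₀, hst₀⟩ : ∃ st₀ : (A ⧸ I) ⊗[A] MonoidAlgebra A M ≃ₐc[A ⧸ I]
      MonoidAlgebra (A ⧸ I) M, st₀ = scalarTensorBialgEquiv A (A ⧸ I) M := ⟨_, rfl⟩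
  obtain ⟨φ₀, hφ₀⟩ : ∃ φ₀ : ((A ⧸ I) ⊗[A] C) ≃ₐc[A ⧸ I] ((A ⧸ I) ⊗[A] MonoidAlgebra A M),
      φ₀ = e₀.trans st₀.symm := ⟨_, rfl⟩
  obtain ⟨φ, hφ⟩ := (Groth.Agent.Lib.Helper6.HomNil.bialgHom_reduction_bijective A I
    (MonoidAlgebra A M) hB C hfl hq0).2 (φ₀ : _ →ₐc[A ⧸ I] _)
  have hφ' : ∀ c : C, φ₀ ((1 : A ⧸ I) ⊗ₜ[A] c) = (1 : A ⧸ I) ⊗ₜ[A] φ c := fun c => hφ c
  have hred : ∀ y : (A ⧸ I) ⊗[A] C, ∃ c : C, (1 : A ⧸ I) ⊗ₜ[A] c = y := by
    intro y
    induction y using TensorProduct.induction_on with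
    | zero => exact ⟨0, TensorProduct.tmul_zero _ _⟩
    | tmul a c =>
      obtain ⟨r, rfl⟩ := Ideal.Quotient.mk_surjective a
      refine ⟨r • c, ?_⟩
      rw [← TensorProduct.smul_tmul, Algebra.smul_def, mul_one]
      rfl
    | add y y' hy hy' =>
      obtain ⟨c, rfl⟩ := hy
      obtain ⟨c', rfl⟩ := hy'
      exact ⟨c + c', TensorProduct.tmul_add _ _ _⟩
  have hcm : ∀ m : M, ∃ c : C, (1 : A ⧸ I) ⊗ₜ[A] c =
      φ₀.symm ((1 : A ⧸ I) ⊗ₜ[A] MonoidAlgebra.single m (1 : A)) := fun m => hred _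
  choose cm hcm' using hcm
  obtain ⟨σ, hσ⟩ : ∃ σ : MonoidAlgebra A M →ₗ[A] C,
      ∀ m r, σ (MonoidAlgebra.single m r) = r • cm m := by
    refine ⟨(Finsupp.linearCombination A cm) ∘ₗ (MonoidAlgebra.coeffLinearEquiv A).toLinearMap, ?_⟩
    intro m r
    show Finsupp.linearCombination A cm ((MonoidAlgebra.single m r).coeff) = _
    rw [MonoidAlgebra.coeff_single, Finsupp.linearCombination_single]
  obtain ⟨ψ₀, hψ₀⟩ : ∃ ψ₀ : ((A ⧸ I) ⊗[A] MonoidAlgebra A M) →ₗ[A] ((A ⧸ I) ⊗[A] C),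
      ∀ y, ψ₀ y = φ₀.symm y :=
    ⟨{ toFun := fun y => φ₀.symm y
       map_add' := fun y y' => map_add _ y y'
       map_smul' := fun r y => by
         simp only [RingHom.id_apply]
         rw [← algebraMap_smul (A ⧸ I) r y, map_smul, algebraMap_smul] }, fun y => rfl⟩
  have hkey : ∀ b : MonoidAlgebra A M,
      (1 : A ⧸ I) ⊗ₜ[A] σ b = φ₀.symm ((1 : A ⧸ I) ⊗ₜ[A] b) := by
    intro b
    induction b using MonoidAlgebra.induction_linear with
    | zero => rw [map_zero, TensorProduct.tmul_zero, TensorProduct.tmul_zero, map_zero]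
    | add x y hx hy =>
      rw [map_add, TensorProduct.tmul_add, TensorProduct.tmul_add, map_add, hx, hy]
    | single m r =>
      have hs : MonoidAlgebra.single m r = r • MonoidAlgebra.single m (1 : A) := by
        rw [MonoidAlgebra.smul_single, smul_eq_mul, mul_one]
      rw [hσ, ← hψ₀, hs, TensorProduct.tmul_smul, TensorProduct.tmul_smul, map_smul, hψ₀, hcm']
  have h1 : ∀ c, c - σ (φ c) ∈ I • (⊤ : Submodule A C) := by
    intro c
    apply Groth.Agent.Lib.Helper6.FlatDef.mem_smul_top_of_one_tmul I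
    rw [TensorProduct.tmul_sub, hkey, ← hφ', φ₀.symm_apply_apply, sub_self]
  have h2 : ∀ b, φ (σ b) - b ∈ I • (⊤ : Submodule A (MonoidAlgebra A M)) := by
    intro b
    apply Groth.Agent.Lib.Helper6.FlatDef.mem_smul_top_of_one_tmul I
    rw [TensorProduct.tmul_sub, ← hφ', hkey, φ₀.apply_symm_apply, sub_self]
  have hbij := bijective_of_mod_jacobson I (IsAdicComplete.le_jacobson_bot I) hC φ σ h1 h2
  exact ⟨M, inferInstance, ⟨BialgEquiv.ofBijective φ hbij⟩⟩

end Diag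

section Iso

variable {R : Type u} [CommRing R]

/-- Faithful flatness lifts through an ideal contained in the Jacobson radical. -/
lemma faithfullyFlat_of_lift_jac (I : Ideal R) (hI : I ≤ Ideal.jacobson ⊥)
    {S : Type u} [CommRing S] [Algebra R S] {Sb : Type u} [CommRing Sb] [Algebra (R ⧸ I) Sb]
    (q : S →+* Sb)
    (hcomp : ∀ r : R, q (algebraMap R S r) = algebraMap (R ⧸ I) Sb (Ideal.Quotient.mk I r))
    [Module.Flat R S] [hff : Module.FaithfullyFlat (R ⧸ I) Sb] :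
    Module.FaithfullyFlat R S := by
  rw [Module.faithfullyFlat_iff]
  refine ⟨inferInstance, fun 𝔪 h𝔪 htop => ?_⟩
  have hI𝔪 : I ≤ 𝔪 := hI.trans (sInf_le ⟨bot_le, h𝔪⟩)
  have hne := ((Module.FaithfullyFlat.iff_flat_and_proper_ideal _ _).mp hff).2 _
    (map_mk_ne_top I 𝔪 hI𝔪 h𝔪.ne_top)
  apply hne
  rw [Ideal.smul_top_eq_map] at htop ⊢
  have h1 : Ideal.map (algebraMap R S) 𝔪 = ⊤ := by
    apply_fun (Submodule.restrictScalars R) using Submodule.restrictScalars_injective R S S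
    rw [htop]
    rfl
  have h2 : Ideal.map q (Ideal.map (algebraMap R S) 𝔪) = ⊤ := by
    rw [h1, Ideal.eq_top_iff_one]
    exact (map_one q) ▸ Ideal.mem_map_of_mem q Submodule.mem_top
  rw [Ideal.map_map, comp_eq I q hcomp, ← Ideal.map_map] at h2
  rw [h2]
  rfl

/-- **SGA 3, X 3.3** (affine form). -/
theorem isIsotrivial_of_mod_complete [IsNoetherianRing R] (I : Ideal R) [IsAdicComplete I R]
    {A : Type u} [CommRing A] [HopfAlgebra R A] (h : IsMultType R A)
    (h0 : IsIsotrivial (R ⧸ I) ((R ⧸ I) ⊗[R] A)) : IsIsotrivial R A := by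
  obtain ⟨R₀', _, _, hét₀, hfin₀, hff₀, hd₀⟩ := h0
  haveI := hét₀
  haveI := hfin₀
  haveI := hff₀
  obtain ⟨R', _, _, hfin, hét, ⟨θ⟩⟩ := Groth.Agent.Helper7.FinEtaleLift.S0532_main R I R₀'
  haveI := hfin
  haveI := hét
  letI : Algebra R R₀' := ((algebraMap (R ⧸ I) R₀').comp (Ideal.Quotient.mk I)).toAlgebra
  haveI : IsScalarTower R (R ⧸ I) R₀' := IsScalarTower.of_algebraMap_eq' rfl
  obtain ⟨q, hq⟩ : ∃ q : R' →+* R₀', ∀ x, q x = θ ((1 : R ⧸ I) ⊗ₜ[R] x) :=
    ⟨(θ : _ →+* R₀').comp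
      (Algebra.TensorProduct.includeRight : R' →ₐ[R] (R ⧸ I) ⊗[R] R').toRingHom, fun x => rfl⟩
  have hcomp : ∀ r : R, q (algebraMap R R' r) =
      algebraMap (R ⧸ I) R₀' (Ideal.Quotient.mk I r) := by
    intro r
    have h3 : (1 : R ⧸ I) ⊗ₜ[R] (algebraMap R R' r) =
        (Ideal.Quotient.mk I r) ⊗ₜ[R] (1 : R') := by
      rw [Algebra.algebraMap_eq_smul_one, ← TensorProduct.smul_tmul, Algebra.smul_def, mul_one]
      rfl
    rw [hq, h3, ← θ.commutes (Ideal.Quotient.mk I r), Algebra.TensorProduct.algebraMap_apply]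
    rfl
  haveI hffR' : Module.FaithfullyFlat R R' :=
    faithfullyFlat_of_lift_jac I (IsAdicComplete.le_jacobson_bot I) q hcomp
  haveI : IsNoetherianRing R' := IsNoetherianRing.of_finite R R'
  haveI : IsAdicComplete I R' := Groth.Agent.Lib.Helper4.FFAlg1.isAdicComplete_of_finite I
  haveI : IsAdicComplete (I.map (algebraMap R R')) R' :=
    (IsAdicComplete.map_algebraMap_iff I R').mpr inferInstance
  have hC : IsMultType R' (R' ⊗[R] A) := IsMultType.baseChange h R'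
  have hd1 : IsDiag R₀' (R₀' ⊗[R] A) := IsDiag.of_tower (R ⧸ I) R₀' hd₀
  obtain ⟨τ, hτ⟩ : ∃ τ : R₀' →+* (R' ⧸ I.map (algebraMap R R')),
      ∀ r : R, τ (algebraMap R R₀' r) = algebraMap R (R' ⧸ I.map (algebraMap R R')) r := by
    obtain ⟨f, hf⟩ : ∃ f : (R ⧸ I) →ₐ[R] (R' ⧸ I.map (algebraMap R R')),
        ∀ r : R, f (Ideal.Quotient.mk I r) = algebraMap R (R' ⧸ I.map (algebraMap R R')) r := by
      refine ⟨Ideal.Quotient.liftₐ I (Algebra.ofId R _) (fun r hr => ?_), fun r => rfl⟩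
      rw [Algebra.ofId_apply, IsScalarTower.algebraMap_apply R R' (R' ⧸ I.map (algebraMap R R')),
        Ideal.Quotient.algebraMap_eq, Ideal.Quotient.eq_zero_iff_mem]
      exact Ideal.mem_map_of_mem _ hr
    obtain ⟨L, hL⟩ : ∃ L : (R ⧸ I) ⊗[R] R' →ₐ[R] (R' ⧸ I.map (algebraMap R R')),
        ∀ (a : R ⧸ I) (x : R'), L (a ⊗ₜ[R] x) = f a * Ideal.Quotient.mk _ x :=
      ⟨Algebra.TensorProduct.lift f (Ideal.Quotient.mkₐ R _) (fun _ _ => Commute.all _ _),
        fun a x => by rw [Algebra.TensorProduct.lift_tmul]; rfl⟩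
    refine ⟨L.toRingHom.comp (θ.symm : R₀' →+* _), ?_⟩
    intro r
    show L (θ.symm (algebraMap R R₀' r)) = _
    have h4 : algebraMap R R₀' r = algebraMap (R ⧸ I) R₀' (Ideal.Quotient.mk I r) := rfl
    rw [h4, θ.symm.commutes, Algebra.TensorProduct.algebraMap_apply, hL, map_one, mul_one]
    exact hf r
  have hd2 : IsDiag (R' ⧸ I.map (algebraMap R R')) ((R' ⧸ I.map (algebraMap R R')) ⊗[R] A) :=
    isDiag_transfer τ hτ hd1
  have hd3 : IsDiag (R' ⧸ I.map (algebraMap R R'))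
      ((R' ⧸ I.map (algebraMap R R')) ⊗[R'] (R' ⊗[R] A)) :=
    IsDiag.to_tower R' (R' ⧸ I.map (algebraMap R R')) hd2
  have hdiag : IsDiag R' (R' ⊗[R] A) :=
    isDiag_of_isDiag_mod_complete (I.map (algebraMap R R')) hC hd3
  exact ⟨R', inferInstance, inferInstance, hét, hfin, hffR', hdiag⟩

end Iso

end Groth.Agent.Lib.Helper6.IsoJac
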